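import Cfsg.Agent.CosetCert.Pack

/-! Generated: the facts of the log. -/

namespace Cfsg.Agent.CosetCert.SuzCollapse

def factStore : Store := (.node 1 (.leaf 0x6000060001c050000d0001c07000130001706000170000207000120001605000160000202000000000207000020000e040000e00011070000000001040000100005070001c00021030002100005070001a0001e000001e00025030000b00021070001f0001c000001c00021070000200003040000300011070002b0001100000110001107000150001107000050000b020000b0001500000150001507000290002506000250000b07000270002103000210000b07000240001102000110000b07000150002401000240000b070002d0000b050000b0001b040000c0001b07000280001b000001b0001d070001d0002601000240002d010000b00015070001500022040002200003070000800003010000300001070000100014020001400009070002c0000901000090000f070000f00023060002d00025030002d00021050002d0001b020002d00011020002c00014000002b00011000002a0001000000290001e04000280000c00000280001d00000270001c00000260001b00000250001a02000240000b00000240001501000220000b06000210000c00000210001f050001f0000d040001e00007030001b00007030001a00006020001700007020001600006020001500005010001100005010001000004000000d00007000000c00006000000b00005000000a00004000000900003040002d0000f010002c0000f040002b0000e030002a0000e06000290000b05000280000b03000270000b06000260000a05000250000a040002400009010002300009040002200008050002100007010002000007060001f00006060001e00005050001d00005030001c00005060001b00004050001a00004040001900004020001800004060001700003050001600003040001500003010001400003060001300002050001200002040001100002030001000002020000f00002000000e00002060000d00001050000c00001040000b00001030000a00001020000900001010000800001060000700000050000600000040000500000030000400000020000300000010000200000000000100000)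 (.leaf 0x4000000000003000000000007000040000005000000000004000040000007000000000603000060000407000040000502000040000407000040001804000040000603000050000607000190000604000060000406000000000007000060001c050001c0000007000040001b030001b00000070000700000010000700007070000700020020000700007020000600006070000700013060001300000070000600012050001200000020000000000010000000000070000000002030000200004010000400004070001000004000001000010000000400004040001b00006050001c0000702000070001302000060001207000100002a030002a0000207000040000a030000a0000000000000000007000060000c060000c0001c070000d0000705000070001c04000070001a))

end Cfsg.Agent.CosetCert.SuzCollapse
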