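import Cfsg.Agent.CosetCert.Pack

/-! Generated: the table. -/

namespace Cfsg.Agent.CosetCert.SuzCollapse

def edgeStore : Store := (.leaf 0x14700000000015d00000000016300000000016100000000012b00000000012900000000010b00000)

def repStore : Store := (.leaf 0x0)

def treeStore : Store := (.leaf 0x0)

end Cfsg.Agent.CosetCert.SuzCollapse
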